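import Cfsg.Agent.SB.All
import Cfsg.Agent.SB.SporA.Ly
import Cfsg.Agent.SB.Spor.RowTits
import Cfsg.Agent.S0000

/-!
# S5765 from the two rows still open (helper68)
-/

set_option autoImplicit false

namespace Cfsg.Agent.SB

open Cfsg

theorem main_of (h23 : Box fun K _ => Spor.IsoFi23 K) (h24 : Box fun K _ => Spor.IsoFi24' K)
    {G : Type*} [Group G] [Finite G] (hR : Cfsg.solvableRadical G = ⊥) (H : Subgroup G) (hmax : IsCoatom H)
    (hH : Group.IsSolvable ↥H) :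
    ∃ x₁ x₂ x₃ x₄ : G, H ⊓ (H).map (MulAut.conj x₁).toMonoidHom ⊓ (H).map (MulAut.conj x₂).toMonoidHom ⊓
      (H).map (MulAut.conj x₃).toMonoidHom ⊓ (H).map (MulAut.conj x₄).toMonoidHom = ⊥ :=
  Red.main (fun K _ _ _ hK => (pieces_of (spor_of (fun K _ _ _ _ h => SporA.row_Ly K h) h23 h24)
    Spor.boxTits).boxes.row K hK S0000.result) hR H hmax hH

end Cfsg.Agent.SB
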