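import Cfsg.Agent.SB.Lie
import Cfsg.Agent.SB.Red.Main
import Cfsg.Agent.SB.SporL.M11
import Cfsg.Agent.SB.SporL.M12
import Cfsg.Agent.SB.SporL.M22
import Cfsg.Agent.SB.SporL.M23
import Cfsg.Agent.SB.SporL.M24
import Cfsg.Agent.SB.SporA.J1
import Cfsg.Agent.SB.SporF.RowJ2
import Cfsg.Agent.SB.SporE.J3
import Cfsg.Agent.SB.SporA.J4
import Cfsg.Agent.SB.SporL.Co1
import Cfsg.Agent.SB.SporL.Co2
import Cfsg.Agent.SB.SporF.RowCo3
import Cfsg.Agent.SB.SporF.RowMcL
import Cfsg.Agent.SB.SporF.RowHS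
import Cfsg.Agent.SB.SporL.Suz
import Cfsg.Agent.SB.Spor.RowHe
import Cfsg.Agent.SB.SporL.Ru
import Cfsg.Agent.SB.SporA.ON
import Cfsg.Agent.SB.Spor.RowFi22
import Cfsg.Agent.SB.SporB.RowF24
import Cfsg.Agent.SB.SporD.HN
import Cfsg.Agent.SB.SporD.Th
import Cfsg.Agent.SB.SporB.RowB
import Cfsg.Agent.SB.SporB.RowM

/-!
# S5765: the sporadic groups (helper68)
-/

set_option autoImplicit false

namespace Cfsg.Agent.SB

open Cfsg

theorem spor_of (hLy : Box fun K _ => Spor.IsoLy K) (h23 : Box fun K _ => Spor.IsoFi23 K)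
    (h24 : Box fun K _ => Spor.IsoFi24' K) : Box fun K _ => IsSporadicGroup K := by
  intro K _ _ _ hK h
  rcases h with h | h | h | h | h | h | h | h | h | h | h | h | h | h | h | h | h | h | h | h | h | h | h | h | h | h
  · exact SporL.row_M11 K h
  · exact SporL.row_M12 K h
  · exact SporL.row_M22 K h
  · exact SporL.row_M23 K h
  · exact SporL.row_M24 K h
  · exact SporA.row_J1 K h
  · exact SporF.row_J2 K h
  · exact SporE.row_J3 K h
  · exact SporA.row_J4 K h
  · exact SporL.row_Co1 K h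
  · exact SporL.row_Co2 K h
  · exact SporF.row_Co3 K h
  · exact SporF.row_McL K h
  · exact SporF.row_HS K h
  · exact SporL.row_Suz K h
  · exact Spor.row_He K h
  · exact SporL.row_Ru K h
  · exact SporA.row_ON K h
  · exact hLy K hK h
  · exact Spor.row_Fi22 K h
  · exact h23 K hK h
  · exact h24 K hK h
  · exact SporD.row_HN K h
  · exact SporD.row_Th K h
  · exact SporB.row_B K h
  · exact SporB.row_M K h

end Cfsg.Agent.SB
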