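import Cfsg.Agent.SB.Alt.Main
import Cfsg.Agent.SB.Par.Main
import Cfsg.Agent.SB.R1.Main
import Cfsg.Agent.SB.Fr.Cls
import Cfsg.Agent.SB.D4.Main
import Cfsg.Agent.SB.TwF.Main
import Cfsg.Agent.SB.Exc.Frm.Main
import Cfsg.Agent.SB.Exc.Frm.MC
import Cfsg.Agent.SB.Exc.CI.Main
import Cfsg.Agent.SB.Exc.Crit.Main
import Cfsg.Agent.SB.Exc.NT.Main
import Cfsg.Agent.SB.Exc.Tor.Main
import Cfsg.Agent.SB.Exc.Max.Main
import Cfsg.Agent.SB.Exc.Max.Inst
import Cfsg.Agent.SB.Exc.Max.Perp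
import Cfsg.Agent.SB.Exc.Max.FFour
import Cfsg.Agent.SB.Low.Main
import Cfsg.Agent.SB.Low.NS
import Cfsg.Agent.SB.Low.Ext
import Cfsg.Agent.SB.Low.TabG
import Cfsg.Agent.SB.Low.TabD
import Cfsg.Agent.SB.Low.Two
import Cfsg.Agent.SB.Low.G23
import Cfsg.Agent.SB.Low.D42
import Cfsg.Agent.SB.Low.D42C

/-!
# S5765: everything but the sporadic groups and the Tits group (helper68)
-/

set_option autoImplicit false

namespace Cfsg.Agent.SB

open Cfsg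

theorem excMax : Exc.BoxMax :=
  Exc.Max.boxMax_of (Exc.Max.boxMain_of (Exc.Max.boxPerp_of Exc.Max.boxShape) (Exc.Max.boxF4_of Exc.Max.boxLoc)
    (Exc.Max.boxE6_of Exc.Max.boxShape)) Exc.Frm.boxMC

theorem excTor : Exc.BoxTor := Exc.Tor.boxTor_of Exc.boxCI (Exc.Crit.boxCrit_of Exc.boxCard)

theorem excNT : Exc.BoxNT := Exc.NT.boxNT_of Exc.boxCI Exc.boxCI6 (Exc.Crit.boxCrit_of Exc.boxCard)

theorem pieces_of (hS : Box fun K _ => IsSporadicGroup K) (h2 : Box fun K _ => Lie.IsoTits K) : Pieces :=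
  have c := Fr.classical D4.boxD4
  { alt := Alt.boxAlt
    spor := hS
    tits := h2
    one := R1.box_one
    par := Par.boxPar
    nL := c.1
    nU := c.2.1
    nSp := c.2.2.1
    nO := c.2.2.2.1
    nOp := c.2.2.2.2.1
    nOm := c.2.2.2.2.2
    nG2 := Low.nG2_of Low.boxNS Low.boxTabG Low.boxTwoG Low.boxAut Low.boxG23
    nF4 := Exc.nF4_of Exc.Frm.boxFrmF4 excMax excTor excNT
    nE6 := Exc.nE6_of Exc.Frm.boxFrmE6 excMax excTor excNT
    nE7 := Exc.nE7_of Exc.Frm.boxFrmE7 excMax excTor excNT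
    nE8 := Exc.nE8_of Exc.Frm.boxFrmE8 excMax excTor excNT
    n2E6 := Exc.n2E6_of Exc.Frm.boxFrm2E6 excMax excTor excNT
    n3D4 := Low.n3D4_of Low.boxNS Low.boxExt Low.boxTabD Low.boxTwoD Low.boxAut Low.boxC42 Low.boxD42
    n2F4 := TwF.box2F4 }

end Cfsg.Agent.SB
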